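import Mathlib
import Cfsg.Agent.MaxPGroup.Basic
import Cfsg.Agent.Transfer.NormalPComplement
import Cfsg.Agent.ThompsonComplement.Main

/-!
# A maximal subgroup which is a `p`-group, `p` odd, forces solvability

`isSolvable_of_odd_coatom_pGroup` is the final form; the earlier ones take Thompson's normal
`p`-complement theorem as the hypothesis `hT`.
-/

set_option autoImplicit false

open Cfsg

namespace CfsgLib.MaxPGroup

universe u

/-- The form of Thompson's normal `p`-complement theorem used below. -/
def ThompsonComplementProp (p : ℕ) : Prop :=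
  ∀ (G : Type u) [Group G] [Finite G] (P : Sylow p G),
    HasNormalPComplement p (Subgroup.normalizer
      (thompsonSubgroupOf p (P : Subgroup G) : Set G)) →
    HasNormalPComplement p (Subgroup.centralizer
      (((P : Subgroup G) ⊓ Subgroup.centralizer ((P : Subgroup G) : Set G) : Subgroup G) : Set G)) →
    HasNormalPComplement p G

open CfsgLib.ThompsonComplement in
theorem isSolvable_of_coatom_pGroup_aux {p : ℕ} [Fact p.Prime] (hT : ThompsonComplementProp.{u} p)
    (n : ℕ) : ∀ (G : Type u) [Group G] [Finite G], Nat.card G = n → ∀ P : Subgroup G,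
      IsPGroup p P → IsCoatom P → Group.IsSolvable G := by
  induction n using Nat.strong_induction_on with
  | _ n ih =>
    intro G _ _ hn P hP hPmax
    by_contra hns
    haveI : Group.IsSolvable P := by
      haveI := hP.isNilpotent
      infer_instance
    -- a nontrivial normal subgroup inside `P` reduces the order
    have hred : ∀ K : Subgroup G, K.Normal → K ≠ ⊥ → K ≤ P → False := by
      intro K _ hK hKP
      have hlt : Nat.card (G ⧸ K) < n := by
        have hK1 : 1 < Nat.card K := (Subgroup.one_lt_card_iff_ne_bot K).mpr hK
        have := K.card_eq_card_quotient_mul_card_subgroup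
        have hq : 0 < Nat.card (G ⧸ K) := Nat.card_pos
        rw [← hn, this]
        exact lt_mul_of_one_lt_right hq hK1
      have hcoatom : IsCoatom (P.map (QuotientGroup.mk' K)) := by
        have hcomap : (P.map (QuotientGroup.mk' K)).comap (QuotientGroup.mk' K) = P := by
          rw [Subgroup.comap_map_eq, QuotientGroup.ker_mk', sup_eq_left.mpr hKP]
        refine ⟨fun htop => hPmax.1 ?_, fun X hX => ?_⟩
        · rw [← hcomap, htop, Subgroup.comap_top]
        · have : X.comap (QuotientGroup.mk' K) = ⊤ := by
            refine hPmax.2 _ ?_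
            rw [← hcomap]
            exact Subgroup.comap_lt_comap_of_surjective (QuotientGroup.mk'_surjective K) |>.mpr hX
          rw [← Subgroup.map_comap_eq_self_of_surjective (QuotientGroup.mk'_surjective K) X, this,
            Subgroup.map_top_of_surjective _ (QuotientGroup.mk'_surjective K)]
      haveI : Group.IsSolvable (G ⧸ K) := ih _ hlt _ rfl _ (hP.map _) hcoatom
      haveI : Group.IsSolvable K :=
        Group.isSolvable_of_isSolvable_injective (Subgroup.inclusion_injective hKP)
      exact hns (Group.isSolvable_of_ker_le_range K.subtype (QuotientGroup.mk' K)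
        (by rw [QuotientGroup.ker_mk', Subgroup.range_subtype]))
    -- the normalizer of a nontrivial subgroup of `P` normalized by `P` is `P`
    have hnormP : ∀ X : Subgroup G, X ≠ ⊥ → X ≤ P → P ≤ Subgroup.normalizer (X : Set G) →
        Subgroup.normalizer (X : Set G) = P := by
      intro X hX hXP hle
      rcases eq_or_lt_of_le hle with heq | hlt
      · exact heq.symm
      · exact (hred X (Subgroup.normalizer_eq_top_iff.mp (hPmax.2 _ hlt)) hX hXP).elim
    have hPne : P ≠ ⊥ := by
      intro hbot
      subst hbot
      haveI : (⊥ : Subgroup G).Normal := inferInstance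
      exact hns (isSolvable_of_normal_coatom ⊥ hPmax)
    obtain ⟨S, hS⟩ := hP.exists_le_sylow
    have hSP : (S : Subgroup G) = P := by
      rcases eq_or_lt_of_le hS with heq | hlt
      · exact heq.symm
      · exfalso
        have hG : IsPGroup p G := fun g => by
          obtain ⟨k, hk⟩ := S.isPGroup' ⟨g, (hPmax.2 _ hlt).symm ▸ Subgroup.mem_top g⟩
          exact ⟨k, by simpa using congrArg Subtype.val hk⟩
        haveI := hG.isNilpotent
        exact hns inferInstance
    have hJ : Subgroup.normalizer (thompsonSubgroupOf p P : Set G) = P := by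
      refine hnormP _ ?_ ?_ ?_
      · rw [thompsonSubgroupOf_eq_jSub]
        exact jSub_ne_bot dvd_rfl hP hPne
      · rw [thompsonSubgroupOf_eq_jSub]
        exact jSub_le P
      · rw [thompsonSubgroupOf_eq_jSub]
        exact Subgroup.le_normalizer.trans (normalizer_le_normalizer_jSub P)
    set Z : Subgroup G := P ⊓ Subgroup.centralizer (P : Set G) with hZdef
    have hcn : Subgroup.centralizer (Z : Set G) ≤ Subgroup.normalizer (Z : Set G) := by
      intro g hg
      rw [Subgroup.mem_normalizer_iff]
      intro z
      have hg' := Subgroup.mem_centralizer_iff.mp hg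
      constructor
      · intro hz
        rwa [← hg' z hz, mul_inv_cancel_right]
      · intro hz
        have h1 := hg' _ hz
        have h2 : g * z * g⁻¹ = z := by
          calc g * z * g⁻¹ = g⁻¹ * (g * (g * z * g⁻¹)) := by group
            _ = g⁻¹ * (g * z * g⁻¹ * g) := by rw [← h1]
            _ = z := by group
        rwa [h2] at hz
    have hZ : Subgroup.centralizer (Z : Set G) = P := by
      have hle : P ≤ Subgroup.centralizer (Z : Set G) := fun y hy =>
        Subgroup.mem_centralizer_iff.mpr fun z hz =>
          (Subgroup.mem_centralizer_iff.mp hz.2 y hy).symm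
      refine le_antisymm ?_ hle
      exact hcn.trans
        (hnormP Z (center_ne_bot hP hPne) inf_le_left
          (hle.trans hcn)).le
    have hP' : HasNormalPComplement p P := CfsgLib.Transfer.hasNormalPComplement_of_isPGroup hP
    have hcomp : HasNormalPComplement p G := by
      refine hT G S ?_ ?_
      · rw [hSP, hJ]; exact hP'
      · rw [hSP, ← hZdef, hZ]; exact hP'
    obtain ⟨Q, M, hM, hQM⟩ := hcomp
    have hMp : ¬ p ∣ Nat.card M := by
      rw [← hQM.index_eq_card]
      exact Q.not_dvd_index
    haveI := hM
    refine hns (isSolvable_of_coatom_complement hP hPmax hMp ?_)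
    rcases eq_or_lt_of_le (le_sup_right : P ≤ M ⊔ P) with heq | hlt
    · have hbot : M = ⊥ := by
        have hMP : M ≤ P := heq.symm ▸ le_sup_left
        obtain ⟨k, hk⟩ := IsPGroup.iff_card.mp (hP.to_le hMP)
        rw [hk] at hMp
        rcases Nat.eq_zero_or_pos k with h0 | h0
        · rw [h0, pow_zero] at hk
          exact Subgroup.eq_bot_of_card_eq M hk
        · exact absurd (dvd_pow_self p h0.ne') hMp
      subst hbot
      have htop : (Q : Subgroup G) = ⊤ := by simpa using hQM.sup_eq_top
      have hG : IsPGroup p G := fun g => by
        obtain ⟨k, hk⟩ := Q.isPGroup' ⟨g, htop ▸ Subgroup.mem_top g⟩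
        exact ⟨k, by simpa using congrArg Subtype.val hk⟩
      haveI := hG.isNilpotent
      exact (hns inferInstance).elim
    · exact hPmax.2 _ hlt

/-- A group with a maximal subgroup which is a `p`-group, `p` odd, is solvable. -/
theorem isSolvable_of_coatom_pGroup {p : ℕ} [Fact p.Prime] (hT : ThompsonComplementProp.{u} p)
    {G : Type u} [Group G] [Finite G] {P : Subgroup G} (hP : IsPGroup p P) (hPmax : IsCoatom P) :
    Group.IsSolvable G :=
  isSolvable_of_coatom_pGroup_aux hT _ G rfl P hP hPmax

theorem thompsonComplementProp {p : ℕ} [Fact p.Prime] (hp : p ≠ 2) :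
    ThompsonComplementProp.{u} p := by
  intro G _ _ P hN hC
  exact CfsgLib.ThompsonComplement.thompson_complement (m := p) dvd_rfl P (Or.inl hp) hC
    (by rwa [← CfsgLib.ThompsonComplement.thompsonSubgroupOf_eq_jSub])

/-- A group with a maximal subgroup of odd prime power order is solvable. -/
theorem isSolvable_of_odd_coatom_pGroup {p : ℕ} [Fact p.Prime] (hp : p ≠ 2)
    {G : Type u} [Group G] [Finite G] {P : Subgroup G} (hP : IsPGroup p P) (hPmax : IsCoatom P) :
    Group.IsSolvable G :=
  isSolvable_of_coatom_pGroup (thompsonComplementProp hp) hP hPmax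

end CfsgLib.MaxPGroup
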